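import Cfsg.Agent.Helper18.GraphAut.Check
import Cfsg.Prelude.Def_ChevG2
import Cfsg.Prelude.Def_ChevB2
import Cfsg.Prelude.Def_ChevF4

/-!
# Data of the exceptional graph automorphisms of `G₂` (`p = 3`), `B₂` and `F₄` (`p = 2`)
-/

set_option autoImplicit false

namespace Cfsg.Agent.Helper18.GraphAut

open Cfsg Cfsg.Lie Cfsg.Agent.Helper18

def gdG2 : GData where
  p := 3
  tauH := [1, 0]
  rho := [2, 3, 0, 1, 5, 4, 7, 6, 10, 11, 8, 9]
  shortH := [true, false]
  shortR := [false, false, true, true, true, false, false, true, true, true, false, false]

def gdB2 : GData where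
  p := 2
  tauH := [1, 0]
  rho := [1, 0, 3, 2, 5, 4, 7, 6]
  shortH := [true, false]
  shortR := [false, true, true, false, false, true, true, false]

def gdF4 : GData where
  p := 2
  tauH := [3, 2, 1, 0]
  rho := [3, 7, 8, 0, 9, 11, 18, 1, 2, 4, 15, 5, 16, 21, 23, 10, 12, 19, 6, 17, 22, 13, 20, 14, 33, 27, 34, 25, 30,
    41, 28, 35, 37, 24, 26, 31, 42, 32, 43, 45, 46, 29, 36, 38, 47, 39, 40, 44]
  shortH := [true, true, false, false]
  shortR := [false, false, false, true, false, false, false, true, true, true, true, true, true, true, true, false,
    false, false, true, true, true, false, false, false, false, false, false, true, true, true, false, false, false,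
    true, true, true, true, true, true, true, true, false, false, false, true, false, false, false]

set_option maxRecDepth 100000 in
theorem validOK_G2 : gdG2.validOK chevG2 = true := by decide +kernel
set_option maxRecDepth 100000 in
theorem f1OK_G2 : gdG2.f1OK chevG2 = true := by decide +kernel
set_option maxRecDepth 100000 in
theorem f2OK_G2 : gdG2.f2OK chevG2 = true := by decide +kernel

set_option maxRecDepth 100000 in
theorem validOK_B2 : gdB2.validOK chevB2 = true := by decide +kernel
set_option maxRecDepth 100000 in
theorem f1OK_B2 : gdB2.f1OK chevB2 = true := by decide +kernel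
set_option maxRecDepth 100000 in
theorem f2OK_B2 : gdB2.f2OK chevB2 = true := by decide +kernel

set_option maxRecDepth 100000 in
theorem validOK_F4 : gdF4.validOK chevF4 = true := by decide +kernel
set_option maxRecDepth 100000 in
theorem f1OK_F4 : gdF4.f1OK chevF4 = true := by decide +kernel
set_option maxRecDepth 100000 in
theorem f2OK_F4 : gdF4.f2OK chevF4 = true := by decide +kernel

end Cfsg.Agent.Helper18.GraphAut
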