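import Cfsg.Agent.Helper18.GraphAut.Check

/-!
# Non-commuting images

For a root `a` and a fundamental coroot coordinate `h_i`, the entries `(h_i, e_a)` of `x_a(1) x_{-a}(1)` and of
`x_{-a}(1) x_a(1)` differ by `±1` (table check), hence differ over every field.
-/

set_option autoImplicit false

namespace Cfsg.Agent.Helper18.GraphAut

open Cfsg Cfsg.Lie Cfsg.Agent.Helper18 Matrix

/-- the entries `(h_i, e_a)` of `x_a(1) x_{-a}(1)` and `x_{-a}(1) x_a(1)` differ by `±1` -/
def witOK (D : ChevalleyDatum) (a i : ℕ) : Bool :=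
  (fun q : Poly => q == [(-1, (0, 0, 0))] || q == [(1, (0, 0, 0))])
    (psub (rowPoly (applyWord D [(a, pconst 1), (D.neg a, pconst 1)] [(D.rank + a, pconst 1)]) i)
      (rowPoly (applyWord D [(D.neg a, pconst 1), (a, pconst 1)] [(D.rank + a, pconst 1)]) i))

section
variable {K : Type*} [Field K]

theorem entry_of_applyWord (D : ChevalleyDatum) (r s : ℕ) (a : Fin D.nroots) (i : Fin D.rank) :
    peval (1 : K) 1 1 (rowPoly (applyWord D [(r, pconst 1), (s, pconst 1)] [(D.rank + a.val, pconst 1)]) i.val) =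
      (D.x K r 1 * D.x K s 1) (Sum.inl i) (Sum.inr a) := by
  have e1 := applyWord_spec (F := K) 1 1 1 D [(r, pconst 1), (s, pconst 1)] [(code D (Sum.inr a), pconst 1)]
  rw [vecD_single] at e1
  have e2 := congrFun e1 (Sum.inl i)
  simp only [vecD, List.map_cons, List.map_nil, peval_pconst, Int.cast_one, ChevalleyDatum.wordMat,
    List.prod_cons, List.prod_nil, mul_one, Matrix.mulVec_single_one] at e2
  rw [peval_rowPoly]
  exact e2

theorem wit_spec (D : ChevalleyDatum) (a : Fin D.nroots) (i : Fin D.rank) (h : witOK D a.val i.val = true) :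
    (D.x K a.val 1 * D.x K (D.neg a.val) 1) (Sum.inl i) (Sum.inr a) ≠
      (D.x K (D.neg a.val) 1 * D.x K a.val 1) (Sum.inl i) (Sum.inr a) := by
  rw [← entry_of_applyWord, ← entry_of_applyWord, ← sub_ne_zero, ← peval_psub]
  unfold witOK at h
  simp only [Bool.or_eq_true, beq_iff_eq] at h
  rcases h with h | h
  · rw [h]; simp [eeval]
  · rw [h]; simp [eeval]

end

end Cfsg.Agent.Helper18.GraphAut
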