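import Cfsg.Agent.Helper18.GraphAut.Main
import Cfsg.Agent.Helper18.GraphAut.Data
import Cfsg.Agent.Helper18.GraphAut.Witness

/-!
# The exceptional graph automorphisms of `G₂` (characteristic 3), `B₂` and `F₄` (characteristic 2)

Conditional on: every non-trivial normal subgroup of the Chevalley group contains the derived subgroup.
-/

set_option autoImplicit false

namespace Cfsg.Agent.Helper18.GraphAut

open Cfsg Cfsg.Lie Cfsg.Agent.Helper18 Matrix

section
variable {K : Type*} [Field K]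

/-- the two pairs of non-commuting images, from the table check `witOK` -/
theorem exists_wit (D : ChevalleyDatum) (hD : D ∈ [chevG2, chevB2, chevD4, chevF4, chevE6, chevE7, chevE8])
    (a : Fin D.nroots) (i : Fin D.rank) (h : witOK D a.val i.val = true) :
    ∃ x ∈ D.group K, ∃ y ∈ D.group K,
      ((x * y : GL D.Idx K) : Matrix D.Idx D.Idx K) (Sum.inl i) (Sum.inr a) ≠
        ((y * x : GL D.Idx K) : Matrix D.Idx D.Idx K) (Sum.inl i) (Sum.inr a) := by
  have htri := triOK_of_mem D hD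
  refine ⟨xGL D K a.val 1, xGL_mem_group' D hD _ _, xGL D K (D.neg a.val) 1, xGL_mem_group' D hD _ _, ?_⟩
  rw [Units.val_mul, Units.val_mul, xGL_val D _ htri, xGL_val D _ htri]
  exact wit_spec D a i h

theorem graphAut_G2 [CharP K 3] (hperf : ∀ x : K, ∃ y : K, y ^ 3 = x)
    (hN : ∀ N : Subgroup ↥(chevG2.group K), N.Normal → N ≠ ⊥ → commutator ↥(chevG2.group K) ≤ N) :
    ∃ α : ↥(chevG2.group K) ≃* ↥(chevG2.group K), ∀ (g : ↥(chevG2.group K)) (r : ℕ) (t : K), r < chevG2.nroots →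
      ((g : GL chevG2.Idx K) : Matrix chevG2.Idx chevG2.Idx K) = chevG2.x K r t →
      ((α g : GL chevG2.Idx K) : Matrix chevG2.Idx chevG2.Idx K) =
        chevG2.x K (gdG2.rho.getD r 0) (t ^ gdG2.lam r) := by
  haveI : CharP K gdG2.p := inferInstanceAs (CharP K 3)
  have hD : chevG2 ∈ [chevG2, chevB2, chevD4, chevF4, chevE6, chevE7, chevE8] := by simp
  obtain ⟨x1, hx1, y1, hy1, hne1⟩ := exists_wit (K := K) chevG2 hD ⟨7, by decide⟩ ⟨0, by decide⟩ (by decide +kernel)
  obtain ⟨x2, hx2, y2, hy2, hne2⟩ := exists_wit (K := K) chevG2 hD ⟨6, by decide⟩ ⟨1, by decide⟩ (by decide +kernel)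
  exact exists_graphAut chevG2 hD gdG2 validOK_G2 f1OK_G2 f2OK_G2 hperf hN
    ⟨x1, hx1, y1, hy1, _, _, by decide, by decide, hne1⟩
    ⟨x2, hx2, y2, hy2, _, _, by decide, by decide, hne2⟩

theorem graphAut_B2 [CharP K 2] (hperf : ∀ x : K, ∃ y : K, y ^ 2 = x)
    (hN : ∀ N : Subgroup ↥(chevB2.group K), N.Normal → N ≠ ⊥ → commutator ↥(chevB2.group K) ≤ N) :
    ∃ α : ↥(chevB2.group K) ≃* ↥(chevB2.group K), ∀ (g : ↥(chevB2.group K)) (r : ℕ) (t : K), r < chevB2.nroots →
      ((g : GL chevB2.Idx K) : Matrix chevB2.Idx chevB2.Idx K) = chevB2.x K r t →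
      ((α g : GL chevB2.Idx K) : Matrix chevB2.Idx chevB2.Idx K) =
        chevB2.x K (gdB2.rho.getD r 0) (t ^ gdB2.lam r) := by
  haveI : CharP K gdB2.p := inferInstanceAs (CharP K 2)
  have hD : chevB2 ∈ [chevG2, chevB2, chevD4, chevF4, chevE6, chevE7, chevE8] := by simp
  obtain ⟨x1, hx1, y1, hy1, hne1⟩ := exists_wit (K := K) chevB2 hD ⟨5, by decide⟩ ⟨0, by decide⟩ (by decide +kernel)
  obtain ⟨x2, hx2, y2, hy2, hne2⟩ := exists_wit (K := K) chevB2 hD ⟨4, by decide⟩ ⟨1, by decide⟩ (by decide +kernel)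
  exact exists_graphAut chevB2 hD gdB2 validOK_B2 f1OK_B2 f2OK_B2 hperf hN
    ⟨x1, hx1, y1, hy1, _, _, by decide, by decide, hne1⟩
    ⟨x2, hx2, y2, hy2, _, _, by decide, by decide, hne2⟩

theorem graphAut_F4 [CharP K 2] (hperf : ∀ x : K, ∃ y : K, y ^ 2 = x)
    (hN : ∀ N : Subgroup ↥(chevF4.group K), N.Normal → N ≠ ⊥ → commutator ↥(chevF4.group K) ≤ N) :
    ∃ α : ↥(chevF4.group K) ≃* ↥(chevF4.group K), ∀ (g : ↥(chevF4.group K)) (r : ℕ) (t : K), r < chevF4.nroots →
      ((g : GL chevF4.Idx K) : Matrix chevF4.Idx chevF4.Idx K) = chevF4.x K r t →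
      ((α g : GL chevF4.Idx K) : Matrix chevF4.Idx chevF4.Idx K) =
        chevF4.x K (gdF4.rho.getD r 0) (t ^ gdF4.lam r) := by
  haveI : CharP K gdF4.p := inferInstanceAs (CharP K 2)
  have hD : chevF4 ∈ [chevG2, chevB2, chevD4, chevF4, chevE6, chevE7, chevE8] := by simp
  obtain ⟨x1, hx1, y1, hy1, hne1⟩ := exists_wit (K := K) chevF4 hD ⟨33, by decide⟩ ⟨0, by decide⟩ (by decide +kernel)
  obtain ⟨x2, hx2, y2, hy2, hne2⟩ := exists_wit (K := K) chevF4 hD ⟨24, by decide⟩ ⟨3, by decide⟩ (by decide +kernel)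
  exact exists_graphAut chevF4 hD gdF4 validOK_F4 f1OK_F4 f2OK_F4 hperf hN
    ⟨x1, hx1, y1, hy1, _, _, by decide, by decide, hne1⟩
    ⟨x2, hx2, y2, hy2, _, _, by decide, by decide, hne2⟩

end

/-- a group isomorphic to the symmetric group of degree 6: non-trivial normal subgroups contain the derived group -/
theorem normalHyp_of_equiv_perm {G : Type*} [Group G] (e : G ≃* Equiv.Perm (Fin 6)) :
    ∀ N : Subgroup G, N.Normal → N ≠ ⊥ → commutator G ≤ N := by
  intro N hN hne
  have h5 : 5 ≤ Nat.card (Fin 6) := by simp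
  haveI : (N.map e.toMonoidHom).Normal := hN.map _ e.surjective
  have hnt : Nontrivial ↥(N.map e.toMonoidHom) := by
    rw [Subgroup.nontrivial_iff_ne_bot]
    intro h
    apply hne
    rwa [Subgroup.map_eq_bot_iff_of_injective _ e.injective] at h
  have h1 := Equiv.Perm.alternatingGroup_le_of_normal h5 hnt
  rw [← alternatingGroup.commutator_perm_eq h5] at h1
  have h2 : (commutator G).map e.toMonoidHom = commutator (Equiv.Perm (Fin 6)) := by
    rw [commutator_def, Subgroup.map_commutator, ← MonoidHom.range_eq_map,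
      MonoidHom.range_eq_top.mpr e.surjective, commutator_def]
  rw [← h2] at h1
  exact (Subgroup.map_le_map_iff_of_injective e.injective).mp h1

end Cfsg.Agent.Helper18.GraphAut
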