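import Cfsg.Agent.Helper18.TriGroup

/-!
# Automorphisms from a pair of block constituents

Let `G` be a group of invertible matrices stabilising the coordinate subspace spanned by the coordinates in `S`,
and `π` a permutation of the coordinates exchanging `S` and its complement `T`. Write `g ~ g'` when the `T × T`
block of `g` equals, after relabelling by `π`, the `S × S` block of `g'`. If every generator of `G` is related to an
element of `G` on both sides, and the two block representations are faithful on `G`, then `~` is the graph of an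
automorphism of `G`.
-/

set_option autoImplicit false

namespace Cfsg.Agent.Helper18.GraphAut

open Cfsg.Agent.Helper18

section
variable {n K : Type*} [Fintype n] [DecidableEq n] [Field K]
variable (S : n → Prop) [DecidablePred S]

/-- invertible matrices stabilising the coordinate subspace spanned by `S` -/
def stGL (K : Type*) [Field K] : Subgroup (GL n K) := lowerGL (fun i => if S i then 1 else 0) K 0

theorem mem_stGL (g : GL n K) :
    g ∈ stGL S K ↔ ∀ i j, ¬ S i → S j → (g : Matrix n n K) i j = 0 := by
  unfold stGL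
  rw [mem_lowerGL_zero]
  constructor
  · intro h i j hi hj
    exact h i j (by simp [hi, hj])
  · intro h i j hij
    by_cases hi : S i <;> by_cases hj : S j <;> simp [hi, hj] at hij
    exact h i j hi hj

variable (π : Equiv.Perm n)

/-- the `T × T` block of `g` is the `S × S` block of `g'`, relabelled by `π` -/
def Rel (g g' : Matrix n n K) : Prop := ∀ i j, ¬ S i → ¬ S j → g i j = g' (π i) (π j)

variable {S π}

theorem Rel.mul (hπ : ∀ i, S (π i) ↔ ¬ S i) {g h g' h' : Matrix n n K}
    (hg : ∀ i j, ¬ S i → S j → g i j = 0) (hh' : ∀ i j, ¬ S i → S j → h' i j = 0)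
    (r1 : Rel S π g g') (r2 : Rel S π h h') : Rel S π (g * h) (g' * h') := by
  intro i j hi hj
  rw [Matrix.mul_apply, Matrix.mul_apply]
  rw [← Equiv.sum_comp π (fun k' => g' (π i) k' * h' k' (π j))]
  apply Finset.sum_congr rfl
  intro k _
  by_cases hk : S k
  · rw [hg i k hi hk, zero_mul]
    have h1 : ¬ S (π k) := by rw [hπ]; exact not_not.mpr hk
    rw [hh' (π k) (π j) h1 ((hπ j).mpr hj), mul_zero]
  · rw [r1 i k hi hk, r2 k j hk hj]

theorem Rel.one : Rel S π (1 : Matrix n n K) 1 := by
  intro i j _ _
  by_cases h : i = j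
  · subst h; simp
  · rw [Matrix.one_apply_ne h, Matrix.one_apply_ne (fun e => h (π.injective e))]

/-- on the `S × S` block, right multiplication only sees the `S × S` block of the right factor -/
theorem mul_apply_congr_S {m h h' : Matrix n n K} (hh : ∀ i j, ¬ S i → S j → h i j = 0)
    (hh' : ∀ i j, ¬ S i → S j → h' i j = 0) (e : ∀ i j, S i → S j → h i j = h' i j) (a b : n) (hb : S b) :
    (m * h) a b = (m * h') a b := by
  rw [Matrix.mul_apply, Matrix.mul_apply]
  apply Finset.sum_congr rfl
  intro k _
  by_cases hk : S k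
  · rw [e k b hk hb]
  · rw [hh k b hk hb, hh' k b hk hb]

theorem exists_mulEquiv (hπ : ∀ i, S (π i) ↔ ¬ S i) (G : Subgroup (GL n K)) (X : Set (GL n K))
    (hGX : G = Subgroup.closure X) (hXinv : ∀ x ∈ X, x⁻¹ ∈ X) (hXst : ∀ x ∈ X, x ∈ stGL S K)
    (hB : ∀ x ∈ X, ∃ x' ∈ G, Rel S π (x : Matrix n n K) (x' : Matrix n n K))
    (hC : ∀ x ∈ X, ∃ y ∈ G, Rel S π (y : Matrix n n K) (x : Matrix n n K))
    (hD : ∀ k ∈ G, (∀ i j, S i → S j → (k : Matrix n n K) i j = (1 : Matrix n n K) i j) → k = 1)
    (hE : ∀ k ∈ G, (∀ i j, ¬ S i → ¬ S j → (k : Matrix n n K) i j = (1 : Matrix n n K) i j) → k = 1) :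
    ∃ α : ↥G ≃* ↥G, ∀ g g' : ↥G,
      Rel S π ((g : GL n K) : Matrix n n K) ((g' : GL n K) : Matrix n n K) → α g = g' := by
  have hGst : G ≤ stGL S K := by
    rw [hGX, Subgroup.closure_le]
    exact hXst
  have hst : ∀ g ∈ G, ∀ i j, ¬ S i → S j → (g : Matrix n n K) i j = 0 :=
    fun g hg => (mem_stGL S g).mp (hGst hg)
  -- existence
  have hex : ∀ g ∈ G, ∃ g' ∈ G, Rel S π (g : Matrix n n K) (g' : Matrix n n K) := by
    intro g hg
    rw [hGX] at hg
    induction hg using Subgroup.closure_induction'' with
    | mem x hx => exact hB x hx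
    | inv_mem x hx => exact hB _ (hXinv x hx)
    | one => exact ⟨1, one_mem _, by simpa using Rel.one⟩
    | mul x y hx hy ihx ihy =>
      obtain ⟨x', hx', rx⟩ := ihx
      obtain ⟨y', hy', ry⟩ := ihy
      refine ⟨x' * y', mul_mem hx' hy', ?_⟩
      rw [Units.val_mul, Units.val_mul]
      exact Rel.mul hπ (hst x (hGX ▸ hx)) (hst y' hy') rx ry
  -- uniqueness
  have huniq : ∀ g g' g'' : GL n K, g' ∈ G → g'' ∈ G → Rel S π (g : Matrix n n K) (g' : Matrix n n K) →
      Rel S π (g : Matrix n n K) (g'' : Matrix n n K) → g' = g'' := by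
    intro g g' g'' hg' hg'' r1 r2
    have hk : g'⁻¹ * g'' = 1 := by
      apply hD _ (mul_mem (inv_mem hg') hg'')
      intro a b ha hb
      have e : ∀ i j, S i → S j → (g'' : Matrix n n K) i j = (g' : Matrix n n K) i j := by
        intro i j hi hj
        have hi' : ¬ S (π.symm i) := by
          intro h
          have := (hπ (π.symm i)).mp (by simpa using hi)
          exact this h
        have hj' : ¬ S (π.symm j) := by
          intro h
          have := (hπ (π.symm j)).mp (by simpa using hj)
          exact this h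
        have e1 := r1 (π.symm i) (π.symm j) hi' hj'
        have e2 := r2 (π.symm i) (π.symm j) hi' hj'
        simp only [Equiv.apply_symm_apply] at e1 e2
        rw [← e1, ← e2]
      rw [Units.val_mul, mul_apply_congr_S (hst g'' hg'') (hst g' hg') e a b hb, ← Units.val_mul,
        inv_mul_cancel, Units.val_one]
    exact (inv_mul_eq_one.mp hk)
  choose! f hfG hfR using hex
  have hf_eq : ∀ g ∈ G, ∀ g' ∈ G, Rel S π (g : Matrix n n K) (g' : Matrix n n K) → f g = g' :=
    fun g hg g' hg' r => huniq g _ _ (hfG g hg) hg' (hfR g hg) r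
  have hf_mul : ∀ g ∈ G, ∀ h ∈ G, f (g * h) = f g * f h := by
    intro g hg h hh
    apply hf_eq _ (mul_mem hg hh) _ (mul_mem (hfG g hg) (hfG h hh))
    rw [Units.val_mul, Units.val_mul]
    exact Rel.mul hπ (hst g hg) (hst _ (hfG h hh)) (hfR g hg) (hfR h hh)
  let αhom : ↥G →* ↥G :=
    { toFun := fun g => ⟨f g, hfG g g.2⟩
      map_one' := by
        apply Subtype.ext
        exact hf_eq 1 (one_mem _) 1 (one_mem _) (by simpa using Rel.one)
      map_mul' := by
        intro g h
        apply Subtype.ext
        exact hf_mul g g.2 h h.2 }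
  have hα_eq : ∀ g g' : ↥G, Rel S π ((g : GL n K) : Matrix n n K) ((g' : GL n K) : Matrix n n K) → αhom g = g' := by
    intro g g' r
    apply Subtype.ext
    exact hf_eq g g.2 g' g'.2 r
  have hinj : Function.Injective αhom := by
    rw [injective_iff_map_eq_one]
    intro g hg
    have h1 : f g = 1 := congrArg Subtype.val hg
    have r := hfR g g.2
    rw [h1] at r
    apply Subtype.ext
    apply hE _ g.2
    intro i j hi hj
    rw [r i j hi hj, Units.val_one]
    by_cases h : i = j
    · subst h; simp
    · rw [Matrix.one_apply_ne h, Matrix.one_apply_ne (fun e => h (π.injective e))]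
  have hsurj : Function.Surjective αhom := by
    have hrange : (⊤ : Subgroup ↥G) ≤ αhom.range := by
      intro g _
      have hg : (g : GL n K) ∈ Subgroup.closure X := hGX ▸ g.2
      have key : ∀ x : GL n K, ∀ hx : x ∈ Subgroup.closure X, (⟨x, hGX ▸ hx⟩ : ↥G) ∈ αhom.range := by
        intro x hx
        induction hx using Subgroup.closure_induction'' with
        | mem x hx =>
          obtain ⟨y, hy, r⟩ := hC x hx
          exact ⟨⟨y, hy⟩, hα_eq ⟨y, hy⟩ ⟨x, _⟩ r⟩
        | inv_mem x hx =>
          obtain ⟨y, hy, r⟩ := hC _ (hXinv x hx)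
          exact ⟨⟨y, hy⟩, hα_eq ⟨y, hy⟩ ⟨x⁻¹, _⟩ r⟩
        | one => exact one_mem _
        | mul x y hx hy ihx ihy => exact mul_mem ihx ihy
      exact key g hg
    intro g
    exact hrange (Subgroup.mem_top g)
  exact ⟨MulEquiv.ofBijective αhom ⟨hinj, hsurj⟩, hα_eq⟩

end

end Cfsg.Agent.Helper18.GraphAut
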