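import Cfsg.Agent.Helper18.ChevCalc

/-!
# Table checks for the exceptional graph automorphisms

In characteristic `p` (`p = 3` for `G₂`, `p = 2` for `B₂`, `F₄`) the coordinates `h_i` (`p_i` short), `e_s` (`s` short)
span a subspace stable under all root elements, and the action of `x_r(t)` on the quotient is, after relabelling
the coordinates by the permutation `π` (long ↦ short), the action of `x_{ρ r}(t^λ)` on the subspace
(`λ = p` for `r` short, `λ = 1` for `r` long).
-/

set_option autoImplicit false

namespace Cfsg.Agent.Helper18.GraphAut

open Cfsg Cfsg.Lie Cfsg.Agent.Helper18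

/-- the entry with row code `k` of a sparse column -/
def rowPoly (v : SVec) (k : ℕ) : Poly := v.foldr (fun e acc => if e.1 = k then padd e.2 acc else acc) []

/-- all coefficients are divisible by `p` -/
def divP (p : ℕ) (q : Poly) : Bool := q.all fun m => m.1 % (p : ℤ) == 0

/-- difference of polynomials -/
def psub (q q' : Poly) : Poly := padd q (pscale (-1) (0, 0, 0) q')

section Eval
variable {F : Type*} [Field F] (x y z : F)

theorem peval_rowPoly (v : SVec) (k : ℕ) : peval x y z (rowPoly v k) = vec x y z v k := by
  induction v with
  | nil => rfl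
  | cons e v ih =>
    have h : rowPoly (e :: v) k = if e.1 = k then padd e.2 (rowPoly v k) else rowPoly v k := rfl
    rw [h, vec_cons]
    split_ifs with h1
    · rw [peval_padd, ih]
    · rw [ih, zero_add]

theorem peval_psub (q q' : Poly) : peval x y z (psub q q') = peval x y z q - peval x y z q' := by
  unfold psub
  rw [peval_padd, peval_pscale]
  simp [eeval]
  ring

theorem peval_eq_zero_of_divP (p : ℕ) [CharP F p] (q : Poly) (h : divP p q = true) : peval x y z q = 0 := by
  induction q with
  | nil => rfl
  | cons m q ih =>
    unfold divP at h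
    rw [List.all_cons, Bool.and_eq_true, beq_iff_eq] at h
    rw [peval_cons, ih h.2, add_zero]
    have : ((m.1 : ℤ) : F) = 0 := (CharP.intCast_eq_zero_iff F p m.1).mpr (Int.dvd_of_emod_eq_zero h.1)
    rw [this, zero_mul]

end Eval

/-- the data of a graph automorphism: characteristic, permutation of the fundamental coroots, permutation of the
roots, and the short fundamental roots / short roots -/
structure GData where
  p : ℕ
  tauH : List ℕ
  rho : List ℕ
  shortH : List Bool
  shortR : List Bool

namespace GData

variable (gd : GData) (D : ChevalleyDatum)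

/-- is the coordinate with code `c` in the short part? -/
def isSC (c : ℕ) : Bool := if c < D.rank then gd.shortH.getD c false else gd.shortR.getD (c - D.rank) false

/-- the permutation of the coordinates, on codes -/
def piC (c : ℕ) : ℕ := if c < D.rank then gd.tauH.getD c 0 else D.rank + gd.rho.getD (c - D.rank) 0

/-- the exponent: `p` on short roots, `1` on long roots -/
def lam (r : ℕ) : ℕ := if gd.shortR.getD r false then gd.p else 1

/-- the tables are involutions exchanging short and long -/
def validOK : Bool :=
  (List.range D.rank).all (fun i => decide (gd.tauH.getD i 0 < D.rank) &&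
    decide (gd.tauH.getD (gd.tauH.getD i 0) 0 = i) &&
    (gd.shortH.getD (gd.tauH.getD i 0) false != gd.shortH.getD i false)) &&
  (List.range D.nroots).all (fun r => decide (gd.rho.getD r 0 < D.nroots) &&
    decide (gd.rho.getD (gd.rho.getD r 0) 0 = r) &&
    (gd.shortR.getD (gd.rho.getD r 0) false != gd.shortR.getD r false))

/-- the block (long rows, short columns) of every root element vanishes modulo `p` -/
def f1OK : Bool :=
  (List.range D.nroots).all fun r => (List.range (D.rank + D.nroots)).all fun j =>
    !gd.isSC D j || (fun col => (List.range (D.rank + D.nroots)).all fun k =>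
      gd.isSC D k || divP gd.p (rowPoly col k)) (xCol D r pX j)

/-- the long block of `x_r(t)` is the short block of `x_{ρ r}(t^λ)` modulo `p` -/
def f2OK : Bool :=
  (List.range D.nroots).all fun r => (List.range (D.rank + D.nroots)).all fun j =>
    gd.isSC D j || (fun col col' => (List.range (D.rank + D.nroots)).all fun k => gd.isSC D k ||
        divP gd.p (psub (rowPoly col k) (rowPoly col' (gd.piC D k))))
      (xCol D r pX j) (xCol D (gd.rho.getD r 0) (ppow pX (gd.lam r)) (gd.piC D j))

section Spec
variable {F : Type*} [Field F]

theorem f1_spec [CharP F gd.p] (h : gd.f1OK D = true) (r : ℕ) (hr : r < D.nroots) (t : F) (i j : D.Idx)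
    (hi : gd.isSC D (code D i) = false) (hj : gd.isSC D (code D j) = true) : D.x F r t i j = 0 := by
  unfold f1OK at h
  rw [List.all_eq_true] at h
  have h1 := h r (List.mem_range.mpr hr)
  rw [List.all_eq_true] at h1
  have h2 := h1 (code D j) (List.mem_range.mpr (code_lt D j))
  rw [hj] at h2
  simp only [Bool.not_true, Bool.false_or, List.all_eq_true, List.mem_range] at h2
  have h3 := h2 (code D i) (code_lt D i)
  rw [hi, Bool.false_or] at h3
  have e := xCol_spec (F := F) t 1 1 D r pX i j
  rw [peval_pX] at e
  rw [← e, ← peval_rowPoly]
  exact peval_eq_zero_of_divP t 1 1 gd.p _ h3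

theorem f2_spec [CharP F gd.p] (h : gd.f2OK D = true) (r : ℕ) (hr : r < D.nroots) (t : F) (i j i' j' : D.Idx)
    (hi : gd.isSC D (code D i) = false) (hj : gd.isSC D (code D j) = false)
    (hi' : code D i' = gd.piC D (code D i)) (hj' : code D j' = gd.piC D (code D j)) :
    D.x F r t i j = D.x F (gd.rho.getD r 0) (t ^ gd.lam r) i' j' := by
  unfold f2OK at h
  rw [List.all_eq_true] at h
  have h1 := h r (List.mem_range.mpr hr)
  rw [List.all_eq_true] at h1
  have h2 := h1 (code D j) (List.mem_range.mpr (code_lt D j))
  rw [hj] at h2
  simp only [Bool.false_or, List.all_eq_true, List.mem_range] at h2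
  have h3 := h2 (code D i) (code_lt D i)
  rw [hi, Bool.false_or] at h3
  have e1 := xCol_spec (F := F) t 1 1 D r pX i j
  rw [peval_pX] at e1
  have e2 := xCol_spec (F := F) t 1 1 D (gd.rho.getD r 0) (ppow pX (gd.lam r)) i' j'
  rw [peval_ppow, peval_pX, hi', hj'] at e2
  rw [← e1, ← e2, ← peval_rowPoly, ← peval_rowPoly, ← sub_eq_zero, ← peval_psub]
  exact peval_eq_zero_of_divP t 1 1 gd.p _ h3

end Spec

end GData

end Cfsg.Agent.Helper18.GraphAut
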