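import Cfsg.Agent.Helper18.GraphAut.Blocks

/-!
# Faithfulness of the block constituents

If every non-trivial normal subgroup of `G` contains the derived subgroup and two elements of `G` have
non-commuting images in a block constituent, then `G` acts faithfully on that constituent.
-/

set_option autoImplicit false

namespace Cfsg.Agent.Helper18.GraphAut

open Cfsg.Agent.Helper18
open scoped commutatorElement

section
variable {n K : Type*} [Fintype n] [DecidableEq n] [Field K]
variable (S : n → Prop) [DecidablePred S]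

/-- the `S × S` block, as a monoid homomorphism on the stabiliser of the subspace -/
def blockS : ↥(stGL S K) →* Matrix {a // S a} {a // S a} K where
  toFun g := ((g : GL n K) : Matrix n n K).toBlock S S
  map_one' := by
    ext a b
    simp [Matrix.toBlock_apply, Matrix.one_apply, Subtype.ext_iff]
  map_mul' g h := by
    rw [Subgroup.coe_mul, Units.val_mul, Matrix.toBlock_mul_eq_add (q := S)]
    have : ((h : GL n K) : Matrix n n K).toBlock (fun a => ¬ S a) S = 0 := by
      ext a b
      exact (mem_stGL S (h : GL n K)).mp h.2 a b a.2 b.2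
    rw [this, Matrix.mul_zero, add_zero]

/-- the `T × T` block (`T` the complement of `S`), as a monoid homomorphism -/
def blockT : ↥(stGL S K) →* Matrix {a // ¬ S a} {a // ¬ S a} K where
  toFun g := ((g : GL n K) : Matrix n n K).toBlock (fun a => ¬ S a) (fun a => ¬ S a)
  map_one' := by
    ext a b
    simp [Matrix.toBlock_apply, Matrix.one_apply, Subtype.ext_iff]
  map_mul' g h := by
    rw [Subgroup.coe_mul, Units.val_mul, Matrix.toBlock_mul_eq_add (q := S)]
    have : ((g : GL n K) : Matrix n n K).toBlock (fun a => ¬ S a) S = 0 := by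
      ext a b
      exact (mem_stGL S (g : GL n K)).mp g.2 a b a.2 b.2
    rw [this, Matrix.zero_mul, zero_add]

variable {S}

theorem faithful_of_hom {M : Type*} [Monoid M] (G : Subgroup (GL n K)) (φ : ↥G →* M)
    (hN : ∀ N : Subgroup ↥G, N.Normal → N ≠ ⊥ → commutator ↥G ≤ N)
    (x y : ↥G) (hne : φ (x * y) ≠ φ (y * x)) : φ.ker = ⊥ := by
  by_contra hb
  have hc := hN φ.ker (MonoidHom.normal_ker φ) hb
  have hmem : ⁅x, y⁆ ∈ commutator ↥G :=
    Subgroup.commutator_mem_commutator (Subgroup.mem_top _) (Subgroup.mem_top _)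
  have h1 := hc hmem
  rw [MonoidHom.mem_ker] at h1
  apply hne
  have : x * y = ⁅x, y⁆ * (y * x) := by
    rw [commutatorElement_def]; group
  rw [this, map_mul, h1, one_mul]

theorem faithful_S (G : Subgroup (GL n K)) (hGst : G ≤ stGL S K)
    (hN : ∀ N : Subgroup ↥G, N.Normal → N ≠ ⊥ → commutator ↥G ≤ N)
    (x y : GL n K) (hx : x ∈ G) (hy : y ∈ G) (a b : n) (ha : S a) (hb : S b)
    (hne : ((x * y : GL n K) : Matrix n n K) a b ≠ ((y * x : GL n K) : Matrix n n K) a b) :
    ∀ k ∈ G, (∀ i j, S i → S j → (k : Matrix n n K) i j = (1 : Matrix n n K) i j) → k = 1 := by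
  set φ : ↥G →* Matrix {a // S a} {a // S a} K := (blockS S).comp (Subgroup.inclusion hGst) with hφ
  have hker : φ.ker = ⊥ := by
    apply faithful_of_hom G φ hN ⟨x, hx⟩ ⟨y, hy⟩
    intro h
    apply hne
    have := congrFun (congrFun h ⟨a, ha⟩) ⟨b, hb⟩
    simpa [hφ, blockS, Matrix.toBlock_apply] using this
  intro k hk hkS
  have : (⟨k, hk⟩ : ↥G) ∈ φ.ker := by
    rw [MonoidHom.mem_ker]
    ext i j
    simp only [hφ, blockS, MonoidHom.comp_apply, MonoidHom.coe_mk, OneHom.coe_mk, Matrix.toBlock_apply,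
      Subgroup.coe_inclusion]
    rw [hkS i j i.2 j.2, Matrix.one_apply, Matrix.one_apply]
    simp [Subtype.ext_iff]
  rw [hker, Subgroup.mem_bot] at this
  exact congrArg Subtype.val this

theorem faithful_T (G : Subgroup (GL n K)) (hGst : G ≤ stGL S K)
    (hN : ∀ N : Subgroup ↥G, N.Normal → N ≠ ⊥ → commutator ↥G ≤ N)
    (x y : GL n K) (hx : x ∈ G) (hy : y ∈ G) (a b : n) (ha : ¬ S a) (hb : ¬ S b)
    (hne : ((x * y : GL n K) : Matrix n n K) a b ≠ ((y * x : GL n K) : Matrix n n K) a b) :
    ∀ k ∈ G, (∀ i j, ¬ S i → ¬ S j → (k : Matrix n n K) i j = (1 : Matrix n n K) i j) → k = 1 := by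
  set φ : ↥G →* Matrix {a // ¬ S a} {a // ¬ S a} K := (blockT S).comp (Subgroup.inclusion hGst) with hφ
  have hker : φ.ker = ⊥ := by
    apply faithful_of_hom G φ hN ⟨x, hx⟩ ⟨y, hy⟩
    intro h
    apply hne
    have := congrFun (congrFun h ⟨a, ha⟩) ⟨b, hb⟩
    simpa [hφ, blockT, Matrix.toBlock_apply] using this
  intro k hk hkS
  have : (⟨k, hk⟩ : ↥G) ∈ φ.ker := by
    rw [MonoidHom.mem_ker]
    ext i j
    simp only [hφ, blockT, MonoidHom.comp_apply, MonoidHom.coe_mk, OneHom.coe_mk, Matrix.toBlock_apply,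
      Subgroup.coe_inclusion]
    rw [hkS i j i.2 j.2, Matrix.one_apply, Matrix.one_apply]
    simp [Subtype.ext_iff]
  rw [hker, Subgroup.mem_bot] at this
  exact congrArg Subtype.val this

theorem normalHyp_of_isSimpleGroup (G : Type*) [Group G] [IsSimpleGroup G] :
    ∀ N : Subgroup G, N.Normal → N ≠ ⊥ → commutator G ≤ N := by
  intro N hN hne
  rw [hN.eq_bot_or_eq_top.resolve_left hne]
  exact le_top

end

end Cfsg.Agent.Helper18.GraphAut
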