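import Cfsg.Agent.Helper18.GraphAut.Faithful
import Cfsg.Agent.Helper18.GraphAut.Check
import Cfsg.Agent.Helper18.UpStruct
import Cfsg.Agent.Helper18.Core

/-!
# The exceptional graph automorphisms, from the table checks

Given the table checks of `GraphAut.Check`, a perfect field of characteristic `p`, the fact that every non-trivial
normal subgroup of the Chevalley group contains its derived subgroup, and two pairs of elements with non-commuting
images in the two constituents, the map `x_r(t) ↦ x_{ρ r}(t^λ)` extends to an automorphism of the Chevalley group.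
-/

set_option autoImplicit false

namespace Cfsg.Agent.Helper18.GraphAut

open Cfsg Cfsg.Lie Cfsg.Agent.Helper18 Matrix

namespace GData

variable (gd : GData) (D : ChevalleyDatum)

/-- the short coordinates -/
def S : D.Idx → Prop := fun i => gd.isSC D (code D i) = true

instance : DecidablePred (gd.S D) := fun i => inferInstanceAs (Decidable (gd.isSC D (code D i) = true))

/-- the permutation of the coordinates -/
def piFun : D.Idx → D.Idx
  | Sum.inl i => if h : gd.tauH.getD i.val 0 < D.rank then Sum.inl ⟨_, h⟩ else Sum.inl i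
  | Sum.inr s => if h : gd.rho.getD s.val 0 < D.nroots then Sum.inr ⟨_, h⟩ else Sum.inr s

theorem validOK_spec (h : gd.validOK D = true) :
    (∀ i < D.rank, gd.tauH.getD i 0 < D.rank ∧ gd.tauH.getD (gd.tauH.getD i 0) 0 = i ∧
      gd.shortH.getD (gd.tauH.getD i 0) false = !gd.shortH.getD i false) ∧
    (∀ r < D.nroots, gd.rho.getD r 0 < D.nroots ∧ gd.rho.getD (gd.rho.getD r 0) 0 = r ∧
      gd.shortR.getD (gd.rho.getD r 0) false = !gd.shortR.getD r false) := by
  unfold validOK at h
  rw [Bool.and_eq_true, List.all_eq_true, List.all_eq_true] at h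
  constructor
  · intro i hi
    have := h.1 i (List.mem_range.mpr hi)
    rw [Bool.and_eq_true, Bool.and_eq_true, decide_eq_true_eq, decide_eq_true_eq, bne_iff_ne] at this
    exact ⟨this.1.1, this.1.2, Bool.eq_not_iff.mpr this.2⟩
  · intro r hr
    have := h.2 r (List.mem_range.mpr hr)
    rw [Bool.and_eq_true, Bool.and_eq_true, decide_eq_true_eq, decide_eq_true_eq, bne_iff_ne] at this
    exact ⟨this.1.1, this.1.2, Bool.eq_not_iff.mpr this.2⟩

theorem code_inl (a : Fin D.rank) : code D (Sum.inl a) = a.val := rfl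

theorem code_inr (s : Fin D.nroots) : code D (Sum.inr s) = D.rank + s.val := rfl

theorem piC_lt (c : ℕ) (hc : c < D.rank) : gd.piC D c = gd.tauH.getD c 0 := by
  unfold piC
  rw [if_pos hc]

theorem piC_ge (s : ℕ) : gd.piC D (D.rank + s) = D.rank + gd.rho.getD s 0 := by
  unfold piC
  rw [if_neg (by omega), Nat.add_sub_cancel_left]

theorem isSC_lt (c : ℕ) (hc : c < D.rank) : gd.isSC D c = gd.shortH.getD c false := by
  unfold isSC
  rw [if_pos hc]

theorem isSC_ge (s : ℕ) : gd.isSC D (D.rank + s) = gd.shortR.getD s false := by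
  unfold isSC
  rw [if_neg (by omega), Nat.add_sub_cancel_left]

theorem code_piFun (h : gd.validOK D = true) (i : D.Idx) : code D (gd.piFun D i) = gd.piC D (code D i) := by
  obtain ⟨h1, h2⟩ := gd.validOK_spec D h
  rcases i with a | s
  · have := (h1 a.val a.2).1
    rw [code_inl, piC_lt gd D _ a.2]
    simp only [piFun, dif_pos this]
    rfl
  · have := (h2 s.val s.2).1
    rw [code_inr, piC_ge]
    simp only [piFun, dif_pos this]
    rfl

theorem piFun_involutive (h : gd.validOK D = true) : Function.Involutive (gd.piFun D) := by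
  obtain ⟨h1, h2⟩ := gd.validOK_spec D h
  intro i
  apply code_injective D
  rw [code_piFun gd D h, code_piFun gd D h]
  rcases i with a | s
  · have := h1 a.val a.2
    rw [code_inl, piC_lt gd D _ a.2, piC_lt gd D _ this.1, this.2.1]
  · have := h2 s.val s.2
    rw [code_inr, piC_ge, piC_ge, this.2.1]

theorem S_piFun (h : gd.validOK D = true) (i : D.Idx) : gd.S D (gd.piFun D i) ↔ ¬ gd.S D i := by
  obtain ⟨h1, h2⟩ := gd.validOK_spec D h
  unfold S
  rw [code_piFun gd D h]
  rcases i with a | s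
  · have := h1 a.val a.2
    rw [code_inl, piC_lt gd D _ a.2, isSC_lt gd D _ this.1, isSC_lt gd D _ a.2, this.2.2]
    cases gd.shortH.getD a.val false <;> simp
  · have := h2 s.val s.2
    rw [code_inr, piC_ge, isSC_ge, isSC_ge, this.2.2]
    cases gd.shortR.getD s.val false <;> simp

/-- the permutation of the coordinates, as a permutation -/
def piPerm (h : gd.validOK D = true) : Equiv.Perm D.Idx := (gd.piFun_involutive D h).toPerm _

end GData

section Main
variable {K : Type*} [Field K]
variable (D : ChevalleyDatum) (hD : D ∈ [chevG2, chevB2, chevD4, chevF4, chevE6, chevE7, chevE8])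
include hD

theorem exists_graphAut (gd : GData) [CharP K gd.p] (hv : gd.validOK D = true) (h1 : gd.f1OK D = true)
    (h2 : gd.f2OK D = true) (hperf : ∀ x : K, ∃ y : K, y ^ gd.p = x)
    (hN : ∀ N : Subgroup ↥(D.group K), N.Normal → N ≠ ⊥ → commutator ↥(D.group K) ≤ N)
    (wS : ∃ x ∈ D.group K, ∃ y ∈ D.group K, ∃ a b : D.Idx, gd.S D a ∧ gd.S D b ∧
      ((x * y : GL D.Idx K) : Matrix D.Idx D.Idx K) a b ≠ ((y * x : GL D.Idx K) : Matrix D.Idx D.Idx K) a b)
    (wT : ∃ x ∈ D.group K, ∃ y ∈ D.group K, ∃ a b : D.Idx, ¬ gd.S D a ∧ ¬ gd.S D b ∧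
      ((x * y : GL D.Idx K) : Matrix D.Idx D.Idx K) a b ≠ ((y * x : GL D.Idx K) : Matrix D.Idx D.Idx K) a b) :
    ∃ α : ↥(D.group K) ≃* ↥(D.group K), ∀ (g : ↥(D.group K)) (r : ℕ) (t : K), r < D.nroots →
      ((g : GL D.Idx K) : Matrix D.Idx D.Idx K) = D.x K r t →
      ((α g : GL D.Idx K) : Matrix D.Idx D.Idx K) = D.x K (gd.rho.getD r 0) (t ^ gd.lam r) := by
  have htri := triOK_of_mem D hD
  obtain ⟨-, hv2⟩ := gd.validOK_spec D hv
  set π := gd.piPerm D hv with hπdef
  have hπ : ∀ i, gd.S D (π i) ↔ ¬ gd.S D i := fun i => gd.S_piFun D hv i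
  have hcode : ∀ i, code D (π i) = gd.piC D (code D i) := fun i => gd.code_piFun D hv i
  have hnS : ∀ i, ¬ gd.S D i → gd.isSC D (code D i) = false := by
    intro i hi
    unfold GData.S at hi
    simpa using hi
  -- the relation on root elements
  have hrel : ∀ r < D.nroots, ∀ t : K,
      Rel (gd.S D) π (D.x K r t) (D.x K (gd.rho.getD r 0) (t ^ gd.lam r)) := by
    intro r hr t i j hi hj
    exact gd.f2_spec D h2 r hr t i j (π i) (π j) (hnS i hi) (hnS j hj) (hcode i) (hcode j)
  have hxmat : ∀ (r : Fin D.nroots) (t : K), D.xMat K r t = D.x K r.val t := by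
    intro r t
    unfold ChevalleyDatum.x
    rw [dif_pos r.2]
  have hgx : ∀ (g : GL D.Idx K) (r : ℕ) (t : K), (g : Matrix D.Idx D.Idx K) = D.x K r t → g = xGL D K r t :=
    fun g r t hg => Units.ext (by rw [hg, xGL_val D _ htri])
  set X : Set (GL D.Idx K) := {g | ∃ (r : Fin D.nroots) (t : K), (g : Matrix D.Idx D.Idx K) = D.xMat K r t} with hX
  have hGst : D.group K ≤ stGL (gd.S D) K := by
    unfold ChevalleyDatum.group
    rw [Subgroup.closure_le]
    rintro x ⟨r, t, hx⟩
    rw [SetLike.mem_coe, mem_stGL]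
    intro i j hi hj
    rw [hx, hxmat]
    exact gd.f1_spec D h1 r.val r.2 t i j (hnS i hi) hj
  obtain ⟨x1, hx1, y1, hy1, a1, b1, ha1, hb1, hne1⟩ := wS
  obtain ⟨x2, hx2, y2, hy2, a2, b2, ha2, hb2, hne2⟩ := wT
  obtain ⟨α, hα⟩ := exists_mulEquiv (S := gd.S D) (π := π) hπ (D.group K) X rfl
    (by
      rintro x ⟨r, t, hx⟩
      rw [hxmat] at hx
      refine ⟨r, -t, ?_⟩
      rw [hgx x _ _ hx, xGL_inv' D hD, xGL_val D _ htri, hxmat])
    (by
      rintro x ⟨r, t, hx⟩
      exact hGst (Subgroup.subset_closure ⟨r, t, hx⟩))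
    (by
      rintro x ⟨r, t, hx⟩
      refine ⟨xGL D K (gd.rho.getD r.val 0) (t ^ gd.lam r.val), xGL_mem_group' D hD _ _, ?_⟩
      rw [hx, hxmat, xGL_val D _ htri]
      exact hrel r.val r.2 t)
    (by
      rintro x ⟨r, t, hx⟩
      obtain ⟨hr1, hr2, -⟩ := hv2 r.val r.2
      have hs : ∃ s : K, s ^ gd.lam (gd.rho.getD r.val 0) = t := by
        unfold GData.lam
        split_ifs
        · exact hperf t
        · exact ⟨t, pow_one t⟩
      obtain ⟨s, hs⟩ := hs
      refine ⟨xGL D K (gd.rho.getD r.val 0) s, xGL_mem_group' D hD _ _, ?_⟩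
      rw [hx, hxmat, xGL_val D _ htri]
      have := hrel _ hr1 s
      rw [hr2, hs] at this
      exact this)
    (faithful_S (D.group K) hGst hN x1 y1 hx1 hy1 a1 b1 ha1 hb1 hne1)
    (faithful_T (D.group K) hGst hN x2 y2 hx2 hy2 a2 b2 ha2 hb2 hne2)
  refine ⟨α, ?_⟩
  intro g r t hr hg
  have hmem : xGL D K (gd.rho.getD r 0) (t ^ gd.lam r) ∈ D.group K := xGL_mem_group' D hD _ _
  have := hα g ⟨_, hmem⟩ (by
    rw [hg]
    simp only [xGL_val D _ htri]
    exact hrel r hr t)
  rw [this]
  exact xGL_val D _ htri _ _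

end Main

end Cfsg.Agent.Helper18.GraphAut
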